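import Groth.Agent.DimFormula.JacobsonLocal
import Groth.Agent.FibDim.Minimal
import Groth.Agent.S3433

/-! The dimension function over a local base -/

set_option autoImplicit false
set_option linter.style.haveILetI false
set_option backward.isDefEq.respectTransparency false
set_option backward.isDefEq.respectTransparency.types false

open AlgebraicGeometry CategoryTheory Order Topology

namespace Groth.Agent.DeltaFun13

open Groth.Agent.DimFormula

universe u

variable {A : Type u} [CommRing A] [IsNoetherianRing A] [IsLocalRing A]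

/-- the closed point -/
abbrev mPt (A : Type u) [CommRing A] [IsLocalRing A] : ↥(Spec (CommRingCat.of A)) :=
  (IsLocalRing.closedPoint A : PrimeSpectrum A)

theorem specializes_mPt (y : ↥(Spec (CommRingCat.of A))) : y ⤳ mPt A :=
  (PrimeSpectrum.le_iff_specializes y (IsLocalRing.closedPoint A)).1 (IsLocalRing.le_maximalIdeal y.2.ne_top)

theorem ringKrullDim_quotient_eq (y : ↥(Spec (CommRingCat.of A))) :
    ringKrullDim (A ⧸ y.asIdeal) = ((cd y (mPt A) : ℕ∞) : WithBot ℕ∞) := by
  refine Eq.trans ?_ (coe_cd (specializes_mPt y))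
  rw [← krullDim_orderDual (α := ↥(Set.Icc (mPt A) y))]
  let f : PrimeSpectrum (A ⧸ y.asIdeal) → (↥(Set.Icc (mPt A) y))ᵒᵈ := fun q =>
    OrderDual.toDual ⟨(PrimeSpectrum.comap (Ideal.Quotient.mk y.asIdeal) q : PrimeSpectrum A),
      specializes_mPt _, (PrimeSpectrum.le_iff_specializes y _).1 fun a ha =>
        show Ideal.Quotient.mk y.asIdeal a ∈ q.asIdeal by
          rw [Ideal.Quotient.eq_zero_iff_mem.2 ha]; exact q.asIdeal.zero_mem⟩
  have hf : Function.Bijective f := by
    refine ⟨fun a b h => PrimeSpectrum.comap_injective_of_surjective _ Ideal.Quotient.mk_surjective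
      (congrArg Subtype.val (OrderDual.toDual.injective h)), fun b => ?_⟩
    have hle : y.asIdeal ≤ (OrderDual.ofDual b).1.asIdeal :=
      (PrimeSpectrum.le_iff_specializes y (OrderDual.ofDual b).1).2 (OrderDual.ofDual b).2.2
    have hk : RingHom.ker (Ideal.Quotient.mk y.asIdeal) ≤ (OrderDual.ofDual b).1.asIdeal := by rwa [Ideal.mk_ker]
    haveI := Ideal.map_isPrime_of_surjective Ideal.Quotient.mk_surjective hk
    refine ⟨⟨(OrderDual.ofDual b).1.asIdeal.map (Ideal.Quotient.mk y.asIdeal), this⟩, ?_⟩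
    refine congrArg OrderDual.toDual (Subtype.ext (PrimeSpectrum.ext ?_))
    exact (Ideal.comap_map_of_surjective _ Ideal.Quotient.mk_surjective _).trans
      (sup_eq_left.2 (by rw [← RingHom.ker_eq_comap_bot]; exact hk))
  refine krullDim_eq_of_orderIso ⟨Equiv.ofBijective f hf, fun {a b} => ?_⟩
  show (PrimeSpectrum.comap (Ideal.Quotient.mk y.asIdeal) a : ↥(Spec (CommRingCat.of A))) ⤳
      (PrimeSpectrum.comap (Ideal.Quotient.mk y.asIdeal) b : ↥(Spec (CommRingCat.of A))) ↔ a ≤ b
  refine (PrimeSpectrum.le_iff_specializes (PrimeSpectrum.comap (Ideal.Quotient.mk y.asIdeal) a)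
    (PrimeSpectrum.comap (Ideal.Quotient.mk y.asIdeal) b)).symm.trans ?_
  exact Ideal.comap_le_comap_iff_of_surjective _ Ideal.Quotient.mk_surjective _ _

variable (hA : CAlg.IsUniversallyCatenary A)

include hA in
theorem isUC_stalk (y : ↥(Spec (CommRingCat.of A))) : CAlg.IsUniversallyCatenary ((Spec (CommRingCat.of A)).presheaf.stalk y) := by
  letI : Algebra A ((Spec (CommRingCat.of A)).presheaf.stalk y) := (StructureSheaf.toStalk A y).hom.toAlgebra
  haveI : IsLocalization.AtPrime ((Spec (CommRingCat.of A)).presheaf.stalk y) y.asIdeal := StructureSheaf.IsLocalization.to_stalk A y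
  exact isUniversallyCatenary_localization hA y.asIdeal.primeCompl _

variable {X : Scheme.{u}} (f : X ⟶ Spec (CommRingCat.of A)) [LocallyOfFiniteType f]

theorem rd_eq_zero_of_closed {z : X} (hz : IsClosed ({z} : Set X)) : FibDim.rd f z = 0 := by
  have h1 : IsClosed ({f.asFiber z} : Set (f.fiber (f z))) := by
    have he : ({f.asFiber z} : Set (f.fiber (f z))) = f.fiberι (f z) ⁻¹' {z} := by
      ext w
      refine ⟨fun hw => ?_, fun hw => (f.fiberι (f z)).isEmbedding.injective (hw.trans (f.fiberι_asFiber z).symm)⟩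
      rw [Set.mem_singleton_iff.1 hw]
      exact f.fiberι_asFiber z
    rw [he]
    exact hz.preimage (f.fiberι (f z)).continuous
  exact (VarDim.closedPoint_iff_deg_eq_zero (k := (Spec (CommRingCat.of A)).residueField (f z)) (f.fiberToSpecResidueField (f z)) _).1 h1

/-- the image of a closed point off the closed fibre has one-dimensional closure -/
theorem cd_eq_one_of_closed {z : X} (hz : IsClosed ({z} : Set X)) (hne : f z ≠ mPt A) :
    cd (f z) (mPt A) = 1 := by
  let V : (Spec (CommRingCat.of A)).Opens := ⟨{mPt A}ᶜ,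
    ((PrimeSpectrum.isClosed_singleton_iff_isMaximal (IsLocalRing.closedPoint A)).2
      (IsLocalRing.maximalIdeal.isMaximal A)).isOpen_compl⟩
  obtain ⟨hJ, hcl⟩ := S3433.result A
  haveI : JacobsonSpace ↥(V : Scheme.{u}) := hJ
  have hz' : IsClosed ({⟨z, hne⟩} : Set ↥((f ⁻¹ᵁ V : X.Opens) : Scheme.{u})) := by
    have e : ({⟨z, hne⟩} : Set ↥((f ⁻¹ᵁ V : X.Opens) : Scheme.{u})) = (f ⁻¹ᵁ V).ι ⁻¹' {z} := by
      ext w
      exact ⟨fun h => congrArg (f ⁻¹ᵁ V).ι h, fun h => (f ⁻¹ᵁ V).ι.isOpenEmbedding.injective h⟩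
    rw [e]
    exact hz.preimage (f ⁻¹ᵁ V).ι.continuous
  have h1 : IsClosed ({(f ∣_ V) ⟨z, hne⟩} : Set ↥(V : Scheme.{u})) :=
    (f ∣_ V).closePoints_subset_preimage_closedPoints hz'
  have h2 := (hcl ⟨f z, hne⟩).1 (by
    have e : (f ∣_ V) ⟨z, hne⟩ = (⟨f z, hne⟩ : ↥(V : Scheme.{u})) :=
      Subtype.ext (congrArg (fun g => g.base ⟨z, hne⟩) (morphismRestrict_ι f V))
    rw [e] at h1
    exact h1)
  rw [ringKrullDim_quotient_eq] at h2
  exact_mod_cast h2

include hA in
/-- `dim closure {x}` against `dim A/p + trdeg` -/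
theorem dim_closure (x : X) :
    ((closure ({x} : Set X) ∩ f ⁻¹' {mPt A}).Nonempty →
      topologicalKrullDim ↥(closure ({x} : Set X)) =
        (((cd (f x) (mPt A) + FibDim.rd f x : ℕ) : ℕ∞) : WithBot ℕ∞)) ∧
    (closure ({x} : Set X) ∩ f ⁻¹' {mPt A} = ∅ →
      ∃ d : ℕ, topologicalKrullDim ↥(closure ({x} : Set X)) = ((d : ℕ∞) : WithBot ℕ∞) ∧
        d + 1 = cd (f x) (mPt A) + FibDim.rd f x) := by
  haveI : IsLocallyNoetherian (Spec (CommRingCat.of A)) := inferInstance
  haveI := LocallyOfFiniteType.isLocallyNoetherian f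
  haveI : QuasiSober ↥(closure ({x} : Set X)) := isClosed_closure.isClosedEmbedding_subtypeVal.quasiSober
  have formula : ∀ z : X, x ⤳ z → cd x z + FibDim.rd f z = cd (f x) (f z) + FibDim.rd f x :=
    fun z hz => (cd_formula f hz).2 (isUC_stalk hA _)
  have hle : ∀ N : ℕ, (∀ z : X, x ⤳ z → cd x z ≤ N) →
      topologicalKrullDim ↥(closure ({x} : Set X)) ≤ ((N : ℕ∞) : WithBot ℕ∞) := fun N hN => by
    rw [topologicalKrullDim_subset]
    refine iSup_le fun l => ?_
    let l' : LTSeries X := l.map Subtype.val fun a b hab => hab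
    have hz : x ⤳ (l.head : X) := specializes_iff_mem_closure.2 l.head.2
    exact_mod_cast (le_cd hz l' rfl (specializes_iff_mem_closure.2 l.last.2)).trans (hN _ hz)
  have hge : ∀ z : X, x ⤳ z →
      ((cd x z : ℕ∞) : WithBot ℕ∞) ≤ topologicalKrullDim ↥(closure ({x} : Set X)) := fun z hz => by
    obtain ⟨l, hl0, hl1, hl⟩ := exists_cd_series hz
    rw [topologicalKrullDim_subset, ← hl]
    exact LTSeries.length_le_krullDim (LTSeries.mk l.length
      (fun i => (⟨l i, specializes_iff_mem_closure.1 ((hl1.trans (LTSeries.monotone l (Fin.le_last i))))⟩ :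
        ↥(closure ({x} : Set X)))) fun i j hij => l.strictMono hij)
  have hbase : ∀ z : X, x ⤳ z →
      cd (f z) (mPt A) + cd (f x) (f z) ≤ cd (f x) (mPt A) := fun z hz =>
    cd_add_cd_le (specializes_mPt _) (hz.map f.continuous)
  constructor
  · rintro ⟨w, hw, hwm⟩
    obtain ⟨z, hwz, hzc⟩ := SchTop.exists_isClosed_specializes w
    have hxz : x ⤳ z := (specializes_iff_mem_closure.2 hw).trans hwz
    have hzm : f z = mPt A := by
      have h := hwz.map f.continuous
      rw [show f w = mPt A from hwm] at h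
      exact (h.antisymm (specializes_mPt _)).eq.symm
    refine le_antisymm (hle _ fun t ht => ?_) ?_
    · have h1 := formula t ht
      have h2 := hbase t ht
      omega
    · have h1 := formula z hxz
      rw [rd_eq_zero_of_closed f hzc, add_zero, hzm] at h1
      rw [← h1]
      exact hge z hxz
  · intro hempty
    have hne : ∀ t : X, x ⤳ t → f t ≠ mPt A := fun t ht e =>
      Set.eq_empty_iff_forall_notMem.1 hempty t ⟨specializes_iff_mem_closure.1 ht, e⟩
    have hpos : ∀ t : X, x ⤳ t → 1 ≤ cd (f t) (mPt A) := fun t ht =>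
      Nat.one_le_iff_ne_zero.2 fun h0 => hne t ht ((cd_eq_zero_iff (specializes_mPt (f t))).1 h0)
    obtain ⟨z, hxz, hzc⟩ := SchTop.exists_isClosed_specializes x
    have h3 := cd_trans (specializes_mPt (f z)) (hxz.map f.continuous) (isUC_stalk hA _)
    rw [cd_eq_one_of_closed f hzc (hne z hxz)] at h3
    have h1 := formula z hxz
    rw [rd_eq_zero_of_closed f hzc, add_zero] at h1
    refine ⟨cd x z, le_antisymm (hle _ fun t ht => ?_) (hge z hxz), ?_⟩
    · have h4 := formula t ht
      have h5 := hbase t ht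
      have h6 := hpos t ht
      omega
    · omega

end Groth.Agent.DeltaFun13
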