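import Groth.Agent.DeltaFun13.Basic
import Groth.Agent.EtLimit.StrictSys
import Groth.Agent.EtLimit.StalkPush
import Groth.Agent.H23.SetupLFT
import Groth.Agent.DimFormula.Fibre
import Groth.Agent.S0540
import Groth.Agent.CycLib.Finite
import Groth.Agent.FibDim.AffineSpaceFibre
import Groth.Agent.AlgSpLib.EtLocalInst
import Mathlib.AlgebraicGeometry.Morphisms.QuasiFinite

/-! Dimensions along a strict localization -/

set_option autoImplicit false
set_option linter.style.haveILetI false
set_option backward.isDefEq.respectTransparency false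
set_option backward.isDefEq.respectTransparency.types false

universe u

open CategoryTheory CategoryTheory.Limits AlgebraicGeometry Opposite Topology

namespace Groth.Agent.DeltaFun13

open Groth.Agent.DimFormula Groth.Agent.EtLimit

variable {S T : Scheme.{u}} {π : T ⟶ S}

theorem etale_structure (P : EtPres π) (i : P.ι) : AlgebraicGeometry.Etale (P.V.obj (op i)).hom :=
  (P.V.obj (op i)).prop

theorem flat_leg [Flat π] (P : EtPres π) (a : P.ιᵒᵖ) : Flat (P.leg a) := by
  haveI : AlgebraicGeometry.Etale (P.V.obj a).hom := (P.V.obj a).prop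
  let Γ : T ⟶ pullback π (P.V.obj a).hom :=
    pullback.lift (𝟙 T) (P.leg a) ((Category.id_comp π).trans (P.leg_hom a).symm)
  haveI : AlgebraicGeometry.Etale (pullback.fst π (P.V.obj a).hom) :=
    MorphismProperty.pullback_fst _ _ inferInstance
  haveI : AlgebraicGeometry.Etale (Γ ≫ pullback.fst π (P.V.obj a).hom) := by
    rw [pullback.lift_fst]; infer_instance
  haveI : AlgebraicGeometry.Etale Γ := AlgebraicGeometry.Etale.of_comp Γ (pullback.fst π (P.V.obj a).hom)
  haveI : Flat (pullback.snd π (P.V.obj a).hom) := MorphismProperty.pullback_snd _ _ inferInstance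
  rw [← pullback.lift_snd (𝟙 T) (P.leg a) ((Category.id_comp π).trans (P.leg_hom a).symm)]
  exact inferInstanceAs (Flat (Γ ≫ pullback.snd π (P.V.obj a).hom))

/-- generizations lift along flat morphisms -/
theorem exists_lift_gen {X Y : Scheme.{u}} (f : X ⟶ Y) [Flat f] (x : X) {y : Y} (h : y ⤳ f x) :
    ∃ x' : X, x' ⤳ x ∧ f x' = y := by
  obtain ⟨q, rfl⟩ : y ∈ Set.range (Y.fromSpecStalk (f x)) := by rw [Scheme.range_fromSpecStalk]; exact h
  letI := (f.stalkMap x).hom.toAlgebra
  haveI : Module.Flat (Y.presheaf.stalk (f x)) (X.presheaf.stalk x) := AlgebraicGeometry.Flat.stalkMap f x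
  haveI : IsLocalHom (algebraMap (Y.presheaf.stalk (f x)) (X.presheaf.stalk x)) :=
    inferInstanceAs (IsLocalHom (f.stalkMap x).hom)
  haveI := Module.FaithfullyFlat.of_flat_of_isLocalHom (A := Y.presheaf.stalk (f x)) (B := X.presheaf.stalk x)
  obtain ⟨q', rfl⟩ := PrimeSpectrum.comap_surjective_of_faithfullyFlat
    (A := Y.presheaf.stalk (f x)) (B := X.presheaf.stalk x) q
  refine ⟨X.fromSpecStalk x q', ?_, ?_⟩
  · have hr : X.fromSpecStalk x q' ∈ Set.range (X.fromSpecStalk x) := ⟨q', rfl⟩
    rwa [Scheme.range_fromSpecStalk] at hr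
  · have h1 := congrArg (fun g => g.base q') (Scheme.SpecMap_stalkMap_fromSpecStalk f (x := x))
    simp only [Scheme.Hom.comp_apply] at h1
    exact h1.symm

variable (P : EtPres π)

theorem leg_map' {i j : P.ι} (h : i ≤ j) : P.leg (op j) ≫ (P.V.map (homOfLE h).op).left = P.leg (op i) :=
  P.leg_map _

theorem leg_eq_of_le {i j : P.ι} (h : i ≤ j) {q q' : T} (e : P.leg (op j) q = P.leg (op j) q') :
    P.leg (op i) q = P.leg (op i) q' := by
  rw [← leg_map' P h, Scheme.Hom.comp_apply, Scheme.Hom.comp_apply, e]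

theorem π_apply (i : P.ι) (q : T) : (P.V.obj (op i)).hom (P.leg (op i) q) = π q :=
  (Scheme.Hom.comp_apply _ _ q).symm.trans (congrArg (fun g => g.base q) (P.leg_hom (op i)))

theorem exists_section [IsAffine T] (r : Γ(T, ⊤)) :
    ∃ (i : P.ι) (t : Γ((P.V.obj (op i)).left, ⊤)), r = (P.leg (op i)).appTop t := by
  haveI : IsFiltered P.ι := isFiltered_of_directed_le_nonempty P.ι
  obtain ⟨hc⟩ := P.isLimit
  let D := P.V ⋙ Scheme.Etale.forget S ⋙ Over.forget S
  haveI : ∀ a, IsAffine (D.obj a) := P.affine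
  haveI : ∀ {a b : P.ιᵒᵖ} (m : a ⟶ b), IsAffineHom (D.map m) := fun m => inferInstance
  obtain ⟨a, t, ht⟩ := exists_appTop_π_eq_of_isLimit D (etLegs P.V P.leg P.leg_map) hc r
  exact ⟨a.unop, t, ht⟩

/-- the stages separate points -/
theorem exists_separating [IsAffine T] {q q' : T} (h : q ≠ q') : ∃ i : P.ι, P.leg (op i) q ≠ P.leg (op i) q' := by
  by_contra hall
  simp only [not_exists, not_not] at hall
  refine h ?_
  have key : ∀ r : Γ(T, ⊤), q ∈ T.basicOpen r ↔ q' ∈ T.basicOpen r := fun r => by
    obtain ⟨i, t, rfl⟩ := exists_section P r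
    rw [← Scheme.Hom.preimage_basicOpen_top]
    show P.leg (op i) q ∈ (P.V.obj (op i)).left.basicOpen t ↔ P.leg (op i) q' ∈ (P.V.obj (op i)).left.basicOpen t
    rw [hall i]
  refine (Inseparable.eq ((inseparable_iff_forall_isOpen).2 fun U hU => ?_))
  constructor <;> intro hq
  · obtain ⟨_, ⟨B, ⟨r, rfl⟩, rfl⟩, hr, hrU⟩ := (isBasis_basicOpen T).exists_subset_of_mem_open hq hU
    exact hrU ((key r).1 hr)
  · obtain ⟨_, ⟨B, ⟨r, rfl⟩, rfl⟩, hr, hrU⟩ := (isBasis_basicOpen T).exists_subset_of_mem_open hq hU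
    exact hrU ((key r).2 hr)

theorem exists_separating_finset [IsAffine T] (s : Finset T) :
    ∃ i : P.ι, ∀ q ∈ s, ∀ q' ∈ s, P.leg (op i) q = P.leg (op i) q' → q = q' := by
  classical
  let f : T × T → P.ι := fun p => if h : p.1 = p.2 then Classical.arbitrary P.ι else (exists_separating P h).choose
  obtain ⟨i, hi⟩ := Finset.exists_le ((s ×ˢ s).image f)
  refine ⟨i, fun q hq q' hq' e => ?_⟩
  by_contra hne
  refine (exists_separating P hne).choose_spec (leg_eq_of_le P ?_ e)
  have := hi (f (q, q')) (Finset.mem_image.2 ⟨(q, q'), Finset.mem_product.2 ⟨hq, hq'⟩, rfl⟩)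
  simpa [f, hne] using this

include P in
/-- points over the same point of the base are incomparable -/
theorem eq_of_specializes_fibre [IsAffine T] {q q' : T} (h : q ⤳ q') (e : π q = π q') : q = q' := by
  by_contra hne
  obtain ⟨i, hi⟩ := exists_separating P hne
  refine hi ?_
  haveI := etale_structure P i
  haveI : LocallyQuasiFinite ((P.V.obj (op i)).hom : (P.V.obj (op i)).left ⟶ S) :=
    inferInstanceAs (LocallyQuasiFinite ((P.V.obj (op i)).hom : (P.V.obj (op i)).left ⟶ S))
  have hd := ((P.V.obj (op i)).hom : (P.V.obj (op i)).left ⟶ S).isDiscrete_preimage_singleton (π q)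
  have h1 : P.leg (op i) q ∈ (P.V.obj (op i)).hom ⁻¹' {π q} := π_apply P i q
  have h2 : P.leg (op i) q' ∈ (P.V.obj (op i)).hom ⁻¹' {π q} := (π_apply P i q').trans e.symm
  have : DiscreteTopology ↥((P.V.obj (op i)).hom ⁻¹' {π q}) := isDiscrete_iff_discreteTopology.1 hd
  exact congrArg Subtype.val (((subtype_specializes_iff (⟨_, h1⟩ : ↥((P.V.obj (op i)).hom ⁻¹' {π q})) ⟨_, h2⟩).2
    (h.map (P.leg (op i)).continuous)).eq)

theorem finite_fibre [IsAffine T] [TopologicalSpace.NoetherianSpace T] (P : EtPres π) (y : S) :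
    (π ⁻¹' {y}).Finite := by
  let C : Set T := π ⁻¹' closure {y}
  have hC : IsClosed C := isClosed_closure.preimage π.continuous
  obtain ⟨F, hF, hcl, hirr, hCF⟩ := TopologicalSpace.NoetherianSpace.exists_finite_set_isClosed_irreducible hC
  haveI := hF.to_subtype
  refine (Set.finite_range fun Z : F => (hirr Z Z.2).genericPoint).subset fun q hq => ?_
  obtain ⟨Z, hZ, hqZ⟩ : q ∈ ⋃₀ F := hCF ▸ (show π q ∈ closure ({y} : Set S) by
    rw [show π q = y from hq]; exact subset_closure rfl)
  have hg := (hirr Z hZ).isGenericPoint_genericPoint (hcl Z hZ)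
  refine ⟨⟨Z, hZ⟩, eq_of_specializes_fibre P (hg.specializes hqZ) ?_⟩
  have h1 : π (hirr Z hZ).genericPoint ∈ closure ({y} : Set S) :=
    (hCF ▸ ⟨Z, hZ, hg.mem⟩ : (hirr Z hZ).genericPoint ∈ C)
  have h2 : π (hirr Z hZ).genericPoint ⤳ π q := (hg.specializes hqZ).map π.continuous
  rw [show π q = y from hq] at h2 ⊢
  exact (h2.antisymm (specializes_iff_mem_closure.2 h1)).eq

variable [IsLocallyNoetherian S] [IsLocallyNoetherian T]

/-- codimensions along a strict localization -/
theorem cd_eq [IsAffine T] [Flat π] [TopologicalSpace.NoetherianSpace T] (P : EtPres π)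
    (hS : ∀ s : S, CAlg.IsUniversallyCatenary (S.presheaf.stalk s)) {p m : T} (hpm : p ⤳ m) :
    cd p m = cd (π p) (π m) := by
  classical
  obtain ⟨l, hl0, hl1, hl⟩ := exists_cd_series hpm
  let s : Finset T := (Finset.univ.image fun i => l i) ∪ (finite_fibre P (π p)).toFinset
  obtain ⟨i, hi⟩ := exists_separating_finset P s
  let V := (P.V.obj (op i)).left
  let e : T ⟶ V := P.leg (op i)
  let g : V ⟶ S := (P.V.obj (op i)).hom
  haveI : AlgebraicGeometry.Etale g := etale_structure P i
  haveI : IsLocallyNoetherian V := @LocallyOfFiniteType.isLocallyNoetherian V S g _ ‹IsLocallyNoetherian S›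
  have he : e p ⤳ e m := hpm.map e.continuous
  have hV : cd (e p) (e m) = cd (π p) (π m) := by
    have h := (cd_formula g he).2 (hS _)
    rw [FibDim.rd_eq_zero_of_quasiFinite, FibDim.rd_eq_zero_of_quasiFinite, add_zero, add_zero] at h
    rw [h]
    exact congrArg₂ cd (π_apply P i p) (π_apply P i m)
  rw [← hV]
  refine le_antisymm ?_ ?_
  · rw [← hl]
    let l' : LTSeries V := LTSeries.mk l.length (fun k => e (l k)) fun a b hab => by
      have hlt := l.strictMono hab
      refine lt_of_le_not_ge (α := V) ((show l b ⤳ l a from hlt.le).map e.continuous) fun hge => hlt.ne ?_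
      exact (hi _ (Finset.mem_union_left _ (Finset.mem_image.2 ⟨b, Finset.mem_univ _, rfl⟩)) _
        (Finset.mem_union_left _ (Finset.mem_image.2 ⟨a, Finset.mem_univ _, rfl⟩))
        (eq_of_specializes_of_specializes ((show l b ⤳ l a from hlt.le).map e.continuous) hge)).symm
    refine le_cd he l' ?_ ?_
    · show e (l.head) = e m
      rw [hl0]
    · exact hl1.map e.continuous
  · haveI : Flat e := flat_leg P (op i)
    obtain ⟨c, hc0, hc1, hc⟩ := exists_cd_series he
    -- lift the chain from the bottom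
    have hlift : ∀ k : Fin (c.length + 1), ∃ d : LTSeries T, d.head = m ∧ e d.last = c k ∧ d.length = k := by
      intro k
      induction k using Fin.induction with
      | zero => exact ⟨RelSeries.singleton _ m, rfl, hc0.symm, rfl⟩
      | succ k ih =>
        obtain ⟨d, hd0, hd1, hd⟩ := ih
        have hlt := c.strictMono (Fin.castSucc_lt_succ (i := k))
        obtain ⟨t, ht, hte⟩ := exists_lift_gen e d.last (y := c k.succ) (hd1 ▸ hlt.le)
        have hlt' : d.last < t := lt_of_le_not_ge (α := T) ht fun hge => hlt.ne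
          (hd1.symm.trans ((congrArg e (eq_of_specializes_of_specializes hge ht)).trans hte))
        exact ⟨d.snoc t hlt', by rw [RelSeries.head_snoc, hd0], by rw [RelSeries.last_snoc, hte],
          by rw [RelSeries.snoc_length, hd]; rfl⟩
    obtain ⟨d, hd0, hd1, hd⟩ := hlift (Fin.last _)
    obtain ⟨t, ht, hte⟩ := exists_lift_gen e d.last (y := e p) (hd1 ▸ hc1)
    have htp : t = p := by
      refine hi t (Finset.mem_union_right _ ?_) p (Finset.mem_union_right _ ?_) hte
      · refine (finite_fibre P (π p)).mem_toFinset.2 ?_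
        show π t = π p
        rw [← π_apply P i t, ← π_apply P i p]
        exact congrArg _ hte
      · exact (finite_fibre P (π p)).mem_toFinset.2 rfl
    rw [← hc, ← show d.length = c.length from hd]
    exact le_cd hpm d hd0 (htp ▸ ht)

theorem isAlgebraic_residueFieldMap {U : Scheme.{u}} (e : T ⟶ U) (g : U ⟶ S) [LocallyOfFiniteType g]
    [LocallyQuasiFinite g] {π' : T ⟶ S} (he : e ≫ g = π') (q : T) (a : U.residueField (e q)) :
    letI := (π'.residueFieldMap q).hom.toAlgebra
    IsAlgebraic (S.residueField (π' q)) (e.residueFieldMap q a) := by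
  subst he
  letI := (g.residueFieldMap (e q)).hom.toAlgebra
  letI : Algebra (S.residueField ((e ≫ g) q)) (T.residueField q) := ((e ≫ g).residueFieldMap q).hom.toAlgebra
  letI : Algebra (S.residueField (g (e q))) (T.residueField q) := ((e ≫ g).residueFieldMap q).hom.toAlgebra
  haveI : Module.Finite (S.residueField (g (e q))) (U.residueField (e q)) :=
    CycLib.finite_residueFieldMap_of_rd_eq_zero g (e q) (FibDim.rd_eq_zero_of_quasiFinite g (e q))
  let φ : U.residueField (e q) →ₐ[S.residueField (g (e q))] T.residueField q :=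
    { (e.residueFieldMap q).hom with
      commutes' := fun b => by
        show e.residueFieldMap q (g.residueFieldMap (e q) b) = (e ≫ g).residueFieldMap q b
        rw [Scheme.residueFieldMap_comp]
        rfl }
  exact (Algebra.IsAlgebraic.isAlgebraic (R := S.residueField (g (e q))) a).algHom φ

theorem rdeg_eq_zero [IsAffine T] (P : EtPres π) (q : T) : VarDim.rdeg π q = 0 := by
  letI := (π.residueFieldMap q).hom.toAlgebra
  haveI : Algebra.IsAlgebraic (S.residueField (π q)) (T.residueField q) := by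
    refine ⟨fun c => ?_⟩
    have hev : ∀ r : Γ(T, ⊤), IsAlgebraic (S.residueField (π q)) (T.Γevaluation q r) := fun r => by
      obtain ⟨i, t, rfl⟩ := exists_section P r
      let g : (P.V.obj (op i)).left ⟶ S := (P.V.obj (op i)).hom
      haveI : AlgebraicGeometry.Etale g := etale_structure P i
      haveI : LocallyQuasiFinite g := inferInstanceAs (LocallyQuasiFinite g)
      rw [← Scheme.Γevaluation_naturality_apply (P.leg (op i)) q t]
      exact isAlgebraic_residueFieldMap (P.leg (op i)) g (P.leg_hom (op i)) q _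
    obtain ⟨s₀, rfl⟩ := T.residue_surjective q c
    letI : Algebra Γ(T, ⊤) (T.presheaf.stalk q) := (T.presheaf.germ ⊤ q trivial).hom.toAlgebra
    haveI : IsLocalization.AtPrime (T.presheaf.stalk q) ((isAffineOpen_top T).primeIdealOf ⟨q, trivial⟩).asIdeal :=
      (isAffineOpen_top T).isLocalization_stalk ⟨q, trivial⟩
    obtain ⟨a, b, rfl⟩ := IsLocalization.exists_mk'_eq
      ((isAffineOpen_top T).primeIdealOf ⟨q, trivial⟩).asIdeal.primeCompl s₀
    have hb0 : T.residue q (algebraMap Γ(T, ⊤) (T.presheaf.stalk q) b.1) ≠ 0 :=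
      ((IsLocalization.map_units (T.presheaf.stalk q) b).map (T.residue q).hom).ne_zero
    have heq : T.residue q (IsLocalization.mk' _ a b) * T.residue q (algebraMap Γ(T, ⊤) _ b.1) =
        T.residue q (algebraMap Γ(T, ⊤) _ a) := by
      rw [← map_mul, IsLocalization.mk'_spec]
    rw [eq_div_of_mul_eq hb0 heq, div_eq_mul_inv]
    exact (hev a).mul (hev b.1).inv
  exact trdeg_eq_zero

theorem flat_fromSpecStalk {X : Scheme.{u}} (x : X) : Flat (X.fromSpecStalk x) := by
  obtain ⟨_, ⟨U, hU, rfl⟩, hx, -⟩ :=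
    X.isBasis_affineOpens.exists_subset_of_mem_open (Set.mem_univ x) isOpen_univ
  replace hU : IsAffineOpen U := hU
  rw [← hU.fromSpecStalk_eq_fromSpecStalk hx, IsAffineOpen.fromSpecStalk]
  letI : Algebra Γ(X, U) (X.presheaf.stalk x) := (X.presheaf.germ U x hx).hom.toAlgebra
  haveI : IsLocalization.AtPrime (X.presheaf.stalk x) (hU.primeIdealOf ⟨x, hx⟩).asIdeal :=
    hU.isLocalization_stalk ⟨x, hx⟩
  haveI : Module.Flat Γ(X, U) (X.presheaf.stalk x) :=
    IsLocalization.flat _ (hU.primeIdealOf ⟨x, hx⟩).asIdeal.primeCompl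
  haveI := hU.isOpenImmersion_fromSpec
  haveI : Flat (Spec.map (X.presheaf.germ U x hx)) := by
    rw [HasRingHomProperty.Spec_iff (P := @Flat)]
    exact RingHom.flat_algebraMap_iff.2 ‹Module.Flat Γ(X, U) (X.presheaf.stalk x)›
  exact inferInstanceAs (Flat (Spec.map (X.presheaf.germ U x hx) ≫ hU.fromSpec))

theorem flat_specOf (X : Scheme.{u}) (x : X) (R : Type u) [CommRing R] [IsLocalRing R]
    [Algebra (X.presheaf.stalk x) R] [Module.Flat (X.presheaf.stalk x) R] : Flat (Hens2.specOf X x R) := by
  haveI : Flat (Spec.map (CommRingCat.ofHom (algebraMap (X.presheaf.stalk x) R))) := by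
    rw [HasRingHomProperty.Spec_iff (P := @Flat)]
    exact RingHom.flat_algebraMap_iff.2 ‹_›
  haveI := flat_fromSpecStalk x
  exact inferInstanceAs (Flat (Spec.map (CommRingCat.ofHom (algebraMap (X.presheaf.stalk x) R)) ≫ X.fromSpecStalk x))

theorem dimGood_spec_field (k : Type u) [Field k] : DimGood (Spec (CommRingCat.of k)) := by
  haveI : Subsingleton (PrimeSpectrum k) := inferInstance
  have hs : ∀ a b : ↥(Spec (CommRingCat.of k)), a = b := fun a b => @Subsingleton.elim (PrimeSpectrum k) _ a b
  refine ⟨fun ζ η s _ _ _ => ?_, fun η s s' _ _ _ _ _ => by rw [hs s s']⟩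
  rw [hs ζ s, hs η s, cd_self]

theorem dd_eq_rd {k : Type u} [Field k] {X : Scheme.{u}} (a : X ⟶ Spec (CommRingCat.of k))
    [LocallyOfFiniteType a] (x : X) :
    haveI := LocallyOfFiniteType.isLocallyNoetherian a
    DimGood X ∧ dd x = FibDim.rd a x := by
  haveI := LocallyOfFiniteType.isLocallyNoetherian a
  obtain ⟨h, hd⟩ := dimGood_of_locallyOfFiniteType a (dimGood_spec_field k) (isUniversallyCatenary_stalk_field k)
  refine ⟨h, ?_⟩
  haveI : Subsingleton (PrimeSpectrum k) := inferInstance
  have h0 : IsClosed ({a x} : Set ↥(Spec (CommRingCat.of k))) := by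
    have : ({a x} : Set ↥(Spec (CommRingCat.of k))) = Set.univ :=
      Set.eq_univ_of_forall fun b => @Subsingleton.elim (PrimeSpectrum k) _ b (a x)
    rw [this]; exact isClosed_univ
  rw [hd x, (dimGood_spec_field k).dd_eq specializes_rfl h0, cd_self, zero_add]

end Groth.Agent.DeltaFun13
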